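import Mathlib

/-!
# Helper24 — jointly epimorphic families into an affine scheme

If ring maps `π i : C ⟶ B i` are jointly injective and the maps `Spec (B i) ⟶ Spec C` are
jointly surjective, then the family `Spec (B i) ⟶ Spec C` is jointly epimorphic in schemes:
the equalizer of two morphisms `Spec C ⟶ X` agreeing on all `Spec (B i)` is a surjective
immersion, hence a closed immersion, and injective on global sections, hence an isomorphism.
-/

set_option autoImplicit false

universe u

open CategoryTheory CategoryTheory.Limits AlgebraicGeometry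

namespace Groth.Agent.Lib.Helper24.SqZeroComm

theorem hom_ext_of_jointly {C : CommRingCat.{u}} {I : Type*} (B : I → CommRingCat.{u})
    (π : ∀ i, C ⟶ B i) (hinj : ∀ x : C, (∀ i, (π i).hom x = 0) → x = 0)
    (hsurj : ∀ z : Spec C, ∃ i, z ∈ Set.range (Spec.map (π i)))
    {X : Scheme.{u}} (P Q : Spec C ⟶ X) (h : ∀ i, Spec.map (π i) ≫ P = Spec.map (π i) ≫ Q) :
    P = Q := by
  let l : ∀ i, Spec (B i) ⟶ equalizer P Q := fun i => equalizer.lift (Spec.map (π i)) (h i)
  have hl : ∀ i, l i ≫ equalizer.ι P Q = Spec.map (π i) := fun i => equalizer.lift_ι _ _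
  have hrange : Set.range (equalizer.ι P Q) = Set.univ := by
    rw [Set.eq_univ_iff_forall]
    intro z
    obtain ⟨i, v, rfl⟩ := hsurj z
    exact ⟨l i v, by rw [← Scheme.Hom.comp_apply, hl]⟩
  haveI : IsClosedImmersion (equalizer.ι P Q) :=
    IsClosedImmersion.of_isPreimmersion _ (by rw [hrange]; exact isClosed_univ)
  haveI : IsIso (equalizer.ι P Q) := by
    apply IsClosedImmersion.isIso_of_injective_of_isAffine
    rw [injective_iff_map_eq_zero]
    intro x hx
    have hx' : (Scheme.ΓSpecIso C).hom.hom x = 0 := by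
      apply hinj
      intro i
      have h1 : (Spec.map (π i)).appTop = (equalizer.ι P Q).appTop ≫ (l i).appTop := by
        rw [← Scheme.Hom.comp_appTop, hl]
      have h2 : (Scheme.ΓSpecIso C).hom ≫ π i =
          (Spec.map (π i)).appTop ≫ (Scheme.ΓSpecIso (B i)).hom :=
        (Scheme.ΓSpecIso_naturality (π i)).symm
      have h3 : (π i).hom ((Scheme.ΓSpecIso C).hom.hom x) =
          (Scheme.ΓSpecIso (B i)).hom.hom ((Spec.map (π i)).appTop.hom x) := congr($h2 x)
      rw [h3, h1]
      change (Scheme.ΓSpecIso (B i)).hom.hom ((l i).appTop.hom ((equalizer.ι P Q).appTop.hom x)) = 0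
      have hx0 : (equalizer.ι P Q).appTop.hom x = 0 := hx
      rw [hx0, map_zero, map_zero]
    have hinj' : Function.Injective (Scheme.ΓSpecIso C).hom.hom :=
      ((ConcreteCategory.isIso_iff_bijective (Scheme.ΓSpecIso C).hom).mp inferInstance).1
    exact hinj' (by rw [hx', map_zero])
  rw [← cancel_epi (equalizer.ι P Q)]
  exact equalizer.condition P Q

end Groth.Agent.Lib.Helper24.SqZeroComm
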