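import Mathlib

/-!
# Helper24 — the triple fibre product ring `B ×_{B/K} B ×_{B/K} B`

For an ideal `K` of a commutative ring `B`, the subring `T K ⊆ B × B × B` of triples
`(b₀, b₁, b₂)` with `b₁ - b₀ ∈ K`, `b₂ - b₀ ∈ K`; its three projections, the diagonal, and (when
`K * K = ⊥`) the ring homomorphism `(b₀, b₁, b₂) ↦ b₁ + b₂ - b₀`.
-/

set_option autoImplicit false

universe u

namespace Groth.Agent.Lib.Helper24.SqZeroComm

variable {B : Type u} [CommRing B] (K : Ideal B)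

/-- the subring of triples congruent mod `K` -/
def tripleSubring : Subring (B × B × B) where
  carrier := {x | x.2.1 - x.1 ∈ K ∧ x.2.2 - x.1 ∈ K}
  mul_mem' := by
    rintro ⟨x0, x1, x2⟩ ⟨y0, y1, y2⟩ ⟨hx1, hx2⟩ ⟨hy1, hy2⟩
    simp only [Set.mem_ofPred_eq, Prod.mk_mul_mk] at hx1 hx2 hy1 hy2 ⊢
    refine ⟨?_, ?_⟩
    · have : x1 * y1 - x0 * y0 = x1 * (y1 - y0) + (x1 - x0) * y0 := by ring
      rw [this]
      exact K.add_mem (K.mul_mem_left _ hy1) (K.mul_mem_right _ hx1)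
    · have : x2 * y2 - x0 * y0 = x2 * (y2 - y0) + (x2 - x0) * y0 := by ring
      rw [this]
      exact K.add_mem (K.mul_mem_left _ hy2) (K.mul_mem_right _ hx2)
  one_mem' := by simp
  add_mem' := by
    rintro ⟨x0, x1, x2⟩ ⟨y0, y1, y2⟩ ⟨hx1, hx2⟩ ⟨hy1, hy2⟩
    simp only [Set.mem_ofPred_eq, Prod.mk_add_mk] at hx1 hx2 hy1 hy2 ⊢
    refine ⟨?_, ?_⟩
    · have : x1 + y1 - (x0 + y0) = (x1 - x0) + (y1 - y0) := by ring
      rw [this]
      exact K.add_mem hx1 hy1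
    · have : x2 + y2 - (x0 + y0) = (x2 - x0) + (y2 - y0) := by ring
      rw [this]
      exact K.add_mem hx2 hy2
  zero_mem' := by simp
  neg_mem' := by
    rintro ⟨x0, x1, x2⟩ ⟨hx1, hx2⟩
    simp only [Set.mem_ofPred_eq, Prod.neg_mk] at hx1 hx2 ⊢
    refine ⟨?_, ?_⟩
    · have : -x1 - -x0 = -(x1 - x0) := by ring
      rw [this]
      exact K.neg_mem hx1
    · have : -x2 - -x0 = -(x2 - x0) := by ring
      rw [this]
      exact K.neg_mem hx2

/-- the triple ring -/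
abbrev T : Type u := ↥(tripleSubring K)

theorem mem_iff (x : B × B × B) : x ∈ tripleSubring K ↔ x.2.1 - x.1 ∈ K ∧ x.2.2 - x.1 ∈ K :=
  Iff.rfl

/-- zeroth projection -/
def pr0 : T K →+* B := (RingHom.fst B (B × B)).comp (tripleSubring K).subtype

/-- first projection -/
def pr1 : T K →+* B :=
  ((RingHom.fst B B).comp (RingHom.snd B (B × B))).comp (tripleSubring K).subtype

/-- second projection -/
def pr2 : T K →+* B :=
  ((RingHom.snd B B).comp (RingHom.snd B (B × B))).comp (tripleSubring K).subtype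

@[simp] theorem pr0_apply (x : T K) : pr0 K x = x.1.1 := rfl
@[simp] theorem pr1_apply (x : T K) : pr1 K x = x.1.2.1 := rfl
@[simp] theorem pr2_apply (x : T K) : pr2 K x = x.1.2.2 := rfl

theorem ext_pr {x y : T K} (h0 : pr0 K x = pr0 K y) (h1 : pr1 K x = pr1 K y)
    (h2 : pr2 K x = pr2 K y) : x = y := by
  apply Subtype.ext
  exact Prod.ext h0 (Prod.ext h1 h2)

theorem eq_zero_of_pr {x : T K} (h0 : pr0 K x = 0) (h1 : pr1 K x = 0) (h2 : pr2 K x = 0) :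
    x = 0 :=
  ext_pr K (by rw [h0, map_zero]) (by rw [h1, map_zero]) (by rw [h2, map_zero])

/-- a triple of congruent ring homs gives a ring hom to `T K` -/
def tripleHom {A : Type u} [CommRing A] (ψ₀ ψ₁ ψ₂ : A →+* B) (h1 : ∀ a, ψ₁ a - ψ₀ a ∈ K)
    (h2 : ∀ a, ψ₂ a - ψ₀ a ∈ K) : A →+* T K :=
  (ψ₀.prod (ψ₁.prod ψ₂)).codRestrict (tripleSubring K) fun a => ⟨h1 a, h2 a⟩

section

variable {A : Type u} [CommRing A] (ψ₀ ψ₁ ψ₂ : A →+* B) (h1 : ∀ a, ψ₁ a - ψ₀ a ∈ K)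
    (h2 : ∀ a, ψ₂ a - ψ₀ a ∈ K)

@[simp] theorem pr0_tripleHom : (pr0 K).comp (tripleHom K ψ₀ ψ₁ ψ₂ h1 h2) = ψ₀ := rfl
@[simp] theorem pr1_tripleHom : (pr1 K).comp (tripleHom K ψ₀ ψ₁ ψ₂ h1 h2) = ψ₁ := rfl
@[simp] theorem pr2_tripleHom : (pr2 K).comp (tripleHom K ψ₀ ψ₁ ψ₂ h1 h2) = ψ₂ := rfl

end

/-- the diagonal -/
def diag : B →+* T K :=
  tripleHom K (RingHom.id B) (RingHom.id B) (RingHom.id B) (fun a => by simp) (fun a => by simp)

@[simp] theorem pr0_diag : (pr0 K).comp (diag K) = RingHom.id B := rfl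
@[simp] theorem pr1_diag : (pr1 K).comp (diag K) = RingHom.id B := rfl
@[simp] theorem pr2_diag : (pr2 K).comp (diag K) = RingHom.id B := rfl

theorem mul_eq_zero_of_mem (hK : K * K = ⊥) {a b : B} (ha : a ∈ K) (hb : b ∈ K) : a * b = 0 := by
  have : a * b ∈ K * K := Ideal.mul_mem_mul ha hb
  rwa [hK, Ideal.mem_bot] at this

/-- `(b₀, b₁, b₂) ↦ b₁ + b₂ - b₀`, a ring hom when `K² = 0` -/
def sum (hK : K * K = ⊥) : T K →+* B where
  toFun x := x.1.2.1 + x.1.2.2 - x.1.1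
  map_one' := by simp
  map_zero' := by simp
  map_add' := by
    rintro ⟨⟨x0, x1, x2⟩, hx⟩ ⟨⟨y0, y1, y2⟩, hy⟩
    simp only [Subring.coe_add, Prod.mk_add_mk]
    ring
  map_mul' := by
    rintro ⟨⟨x0, x1, x2⟩, hx1, hx2⟩ ⟨⟨y0, y1, y2⟩, hy1, hy2⟩
    simp only [Subring.coe_mul, Prod.mk_mul_mk]
    simp only at hx1 hx2 hy1 hy2
    have e1 : (x1 - x0) * (y2 - y0) = 0 := mul_eq_zero_of_mem K hK hx1 hy2
    have e2 : (x2 - x0) * (y1 - y0) = 0 := mul_eq_zero_of_mem K hK hx2 hy1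
    linear_combination (-1 : B) * e1 - e2

@[simp] theorem sum_apply (hK : K * K = ⊥) (x : T K) : sum K hK x = x.1.2.1 + x.1.2.2 - x.1.1 :=
  rfl

theorem sum_diag (hK : K * K = ⊥) : (sum K hK).comp (diag K) = RingHom.id B := by
  ext b
  change b + b - b = b
  ring

theorem sum_tripleHom_left (hK : K * K = ⊥) {A : Type u} [CommRing A] (ψ₀ ψ₁ : A →+* B)
    (h1 : ∀ a, ψ₁ a - ψ₀ a ∈ K) :
    (sum K hK).comp (tripleHom K ψ₀ ψ₁ ψ₀ h1 (fun a => by simp)) = ψ₁ := by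
  ext a
  change ψ₁ a + ψ₀ a - ψ₀ a = ψ₁ a
  ring

theorem sum_tripleHom_right (hK : K * K = ⊥) {A : Type u} [CommRing A] (ψ₀ ψ₂ : A →+* B)
    (h2 : ∀ a, ψ₂ a - ψ₀ a ∈ K) :
    (sum K hK).comp (tripleHom K ψ₀ ψ₀ ψ₂ (fun a => by simp) h2) = ψ₂ := by
  ext a
  change ψ₀ a + ψ₂ a - ψ₀ a = ψ₂ a
  ring

/-- `pr0` is surjective on prime spectra when `K² = 0` -/
theorem exists_comap_pr0 (hK : K * K = ⊥) (p : PrimeSpectrum (T K)) :
    ∃ q : PrimeSpectrum B, PrimeSpectrum.comap (pr0 K) q = p := by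
  have hsurj : Function.Surjective (pr0 K) := fun b => ⟨diag K b, rfl⟩
  have hmem : p ∈ Set.range (PrimeSpectrum.comap (pr0 K)) := by
    rw [range_comap_of_surjective _ _ hsurj, PrimeSpectrum.mem_zeroLocus]
    intro x hx
    rw [SetLike.mem_coe, RingHom.mem_ker] at hx
    -- `x * x = 0`
    have hxx : x * x = 0 := by
      obtain ⟨⟨x0, x1, x2⟩, hx1, hx2⟩ := x
      simp only at hx1 hx2
      have h0 : x0 = 0 := hx
      subst h0
      rw [sub_zero] at hx1 hx2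
      apply Subtype.ext
      change ((0 : B) * 0, x1 * x1, x2 * x2) = (0, 0, 0)
      rw [mul_eq_zero_of_mem K hK hx1 hx1, mul_eq_zero_of_mem K hK hx2 hx2, mul_zero]
    have : x * x ∈ p.asIdeal := by rw [hxx]; exact p.asIdeal.zero_mem
    exact (p.isPrime.mem_or_mem this).elim id id
  exact hmem

end Groth.Agent.Lib.Helper24.SqZeroComm
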