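import Mathlib
import Groth.Prelude.Def_Red
import Groth.Agent.Lib.Helper24.SqZeroComm.Triple
import Groth.Agent.Lib.Helper24.SqZeroComm.JointEpi

/-!
# Helper24 — the kernel of reduction modulo a square-zero ideal is commutative

Eckmann–Hilton over the triple fibre product ring `T K = B ×_{B/K} B ×_{B/K} B`.
-/

set_option autoImplicit false

universe u

open CategoryTheory CategoryTheory.Limits AlgebraicGeometry MonoidalCategory
  CartesianMonoidalCategory MonObj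

namespace Groth.Agent.Lib.Helper24.SqZeroComm

section EH

variable {C : Type*} [Category C] [CartesianMonoidalCategory C] {G : C} [MonObj G] {V Z : C}

theorem comm_of_triple (p₀ p₁ p₂ s : V ⟶ Z)
    (hmono : ∀ P Q : Z ⟶ G, p₀ ≫ P = p₀ ≫ Q → p₁ ≫ P = p₁ ≫ Q → p₂ ≫ P = p₂ ≫ Q → P = Q)
    (a b : V ⟶ G) (G₁ G₂ : Z ⟶ G)
    (h01 : p₀ ≫ G₁ = 1) (h11 : p₁ ≫ G₁ = a) (h21 : p₂ ≫ G₁ = 1) (hs1 : s ≫ G₁ = a)
    (h02 : p₀ ≫ G₂ = 1) (h12 : p₁ ≫ G₂ = 1) (h22 : p₂ ≫ G₂ = b) (hs2 : s ≫ G₂ = b) :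
    a * b = b * a := by
  have hcomm : G₁ * G₂ = G₂ * G₁ := by
    apply hmono
    · rw [MonObj.comp_mul, MonObj.comp_mul, h01, h02]
    · rw [MonObj.comp_mul, MonObj.comp_mul, h11, h12, _root_.mul_one, _root_.one_mul]
    · rw [MonObj.comp_mul, MonObj.comp_mul, h21, h22, _root_.mul_one, _root_.one_mul]
  calc a * b = (s ≫ G₁) * (s ≫ G₂) := by rw [hs1, hs2]
    _ = s ≫ (G₁ * G₂) := (MonObj.comp_mul _ _ _).symm
    _ = s ≫ (G₂ * G₁) := by rw [hcomm]
    _ = (s ≫ G₂) * (s ≫ G₁) := MonObj.comp_mul _ _ _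
    _ = b * a := by rw [hs1, hs2]

end EH

/-- three-map version of the joint epi lemma -/
theorem hom_ext_of_three {C B : CommRingCat.{u}} (π₀ π₁ π₂ : C ⟶ B)
    (hinj : ∀ x : C, π₀.hom x = 0 → π₁.hom x = 0 → π₂.hom x = 0 → x = 0)
    (hsurj : ∀ z : Spec C, z ∈ Set.range (Spec.map π₀))
    {X : Scheme.{u}} (P Q : Spec C ⟶ X) (h0 : Spec.map π₀ ≫ P = Spec.map π₀ ≫ Q)
    (h1 : Spec.map π₁ ≫ P = Spec.map π₁ ≫ Q) (h2 : Spec.map π₂ ≫ P = Spec.map π₂ ≫ Q) :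
    P = Q := by
  refine hom_ext_of_jointly (I := Fin 3) (fun _ => B) ![π₀, π₁, π₂] ?_ ?_ P Q ?_
  · intro x hx
    exact hinj x (hx 0) (hx 1) (hx 2)
  · intro z
    exact ⟨0, hsurj z⟩
  · intro i
    fin_cases i
    · exact h0
    · exact h1
    · exact h2

section Local

variable {R : Type u} [CommRing R] {Y : Over (Spec (CommRingCat.of R))}
  {B : CommRingCat.{u}} (v : Spec B ⟶ Y.left) (J : Ideal R)

/-- the ring map of `Spec B ⟶ Y ⟶ Spec R` -/
noncomputable def rho : CommRingCat.of R ⟶ B := Spec.preimage (v ≫ Y.hom)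

theorem map_rho : Spec.map (rho v) = v ≫ Y.hom := Spec.map_preimage _

/-- the ideal `J B` -/
noncomputable def KK : Ideal B := J.map (rho v).hom

theorem KK_sq (hJ : J * J = ⊥) : KK v J * KK v J = ⊥ := by
  rw [KK, ← Ideal.map_mul, hJ, Ideal.map_bot]

/-- the triple ring as a `CommRingCat` -/
noncomputable abbrev TT : CommRingCat.{u} := CommRingCat.of (T (KK v J))

/-- projections -/
noncomputable def π0 : TT v J ⟶ B := CommRingCat.ofHom (pr0 (KK v J))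
/-- projections -/
noncomputable def π1 : TT v J ⟶ B := CommRingCat.ofHom (pr1 (KK v J))
/-- projections -/
noncomputable def π2 : TT v J ⟶ B := CommRingCat.ofHom (pr2 (KK v J))
/-- diagonal -/
noncomputable def δ : B ⟶ TT v J := CommRingCat.ofHom (diag (KK v J))
/-- sum -/
noncomputable def σ (hJ : J * J = ⊥) : TT v J ⟶ B := CommRingCat.ofHom (sum (KK v J) (KK_sq v J hJ))

theorem δ_π0 : δ v J ≫ π0 v J = 𝟙 B := rfl
theorem δ_π1 : δ v J ≫ π1 v J = 𝟙 B := rfl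
theorem δ_π2 : δ v J ≫ π2 v J = 𝟙 B := rfl
theorem δ_σ (hJ : J * J = ⊥) : δ v J ≫ σ v J hJ = 𝟙 B := by
  ext b
  exact congr($(sum_diag (KK v J) (KK_sq v J hJ)) b)

/-- the thickened object over the base -/
noncomputable def Zobj : Over (Spec (CommRingCat.of R)) := Over.mk (Spec.map (rho v ≫ δ v J))

/-- the affine piece of `Y` over the base -/
noncomputable def Vobj : Over (Spec (CommRingCat.of R)) := Over.mk (v ≫ Y.hom)

/-- the map to `Y` -/
noncomputable def vv : Vobj v ⟶ Y := Over.homMk v rfl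

theorem hom_compat (π : TT v J ⟶ B) (h : δ v J ≫ π = 𝟙 B) :
    Spec.map π ≫ (Zobj v J).hom = (Vobj v).hom := by
  change Spec.map π ≫ Spec.map (rho v ≫ δ v J) = v ≫ Y.hom
  rw [← Spec.map_comp, Category.assoc, h, Category.comp_id, map_rho]

/-- the three closed immersions and the sum map, over the base -/
noncomputable def p0 : Vobj v ⟶ Zobj v J := Over.homMk (Spec.map (π0 v J)) (hom_compat v J _ (δ_π0 v J))
/-- the three closed immersions and the sum map, over the base -/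
noncomputable def p1 : Vobj v ⟶ Zobj v J := Over.homMk (Spec.map (π1 v J)) (hom_compat v J _ (δ_π1 v J))
/-- the three closed immersions and the sum map, over the base -/
noncomputable def p2 : Vobj v ⟶ Zobj v J := Over.homMk (Spec.map (π2 v J)) (hom_compat v J _ (δ_π2 v J))
/-- the three closed immersions and the sum map, over the base -/
noncomputable def ps (hJ : J * J = ⊥) : Vobj v ⟶ Zobj v J :=
  Over.homMk (Spec.map (σ v J hJ)) (hom_compat v J _ (δ_σ v J hJ))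

theorem scheme_hom_ext (hJ : J * J = ⊥) {X : Scheme.{u}} (P Q : Spec (TT v J) ⟶ X)
    (h0 : Spec.map (π0 v J) ≫ P = Spec.map (π0 v J) ≫ Q)
    (h1 : Spec.map (π1 v J) ≫ P = Spec.map (π1 v J) ≫ Q)
    (h2 : Spec.map (π2 v J) ≫ P = Spec.map (π2 v J) ≫ Q) : P = Q := by
  refine hom_ext_of_three (π0 v J) (π1 v J) (π2 v J) ?_ ?_ P Q h0 h1 h2
  · intro x hx0 hx1 hx2
    exact eq_zero_of_pr (KK v J) hx0 hx1 hx2
  · intro z
    obtain ⟨q, hq⟩ := exists_comap_pr0 (KK v J) (KK_sq v J hJ) z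
    exact ⟨q, hq⟩

theorem over_hom_ext (hJ : J * J = ⊥) {X : Over (Spec (CommRingCat.of R))} (P Q : Zobj v J ⟶ X)
    (h0 : p0 v J ≫ P = p0 v J ≫ Q) (h1 : p1 v J ≫ P = p1 v J ≫ Q)
    (h2 : p2 v J ≫ P = p2 v J ≫ Q) : P = Q := by
  apply Over.OverMorphism.ext
  exact scheme_hom_ext v J hJ P.left Q.left congr($(h0).left) congr($(h1).left) congr($(h2).left)

variable {X : Over (Spec (CommRingCat.of R))} {A : CommRingCat.{u}} (w : Spec A ⟶ X.left)

/-- congruence modulo `J B` of the ring maps of two points agreeing on `Y₀` -/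
theorem congr_of_reduction [Mono w] (a a' : Y ⟶ X)
    (h : pullback.fst Y.hom (Spec.map (CommRingCat.ofHom (Ideal.Quotient.mk J))) ≫ a.left =
      pullback.fst Y.hom (Spec.map (CommRingCat.ofHom (Ideal.Quotient.mk J))) ≫ a'.left)
    (ψ ψ' : A ⟶ B) (hψ : v ≫ a.left = Spec.map ψ ≫ w) (hψ' : v ≫ a'.left = Spec.map ψ' ≫ w)
    (x : A) : ψ.hom x - ψ'.hom x ∈ KK v J := by
  set j := Spec.map (CommRingCat.ofHom (Ideal.Quotient.mk J)) with hj
  let mk : B ⟶ CommRingCat.of (B ⧸ KK v J) := CommRingCat.ofHom (Ideal.Quotient.mk (KK v J))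
  let ρbar : CommRingCat.of (R ⧸ J) ⟶ CommRingCat.of (B ⧸ KK v J) :=
    CommRingCat.ofHom (Ideal.quotientMap (KK v J) (rho v).hom Ideal.le_comap_map)
  have hsq : CommRingCat.ofHom (Ideal.Quotient.mk J) ≫ ρbar = rho v ≫ mk := by
    ext r
    rfl
  let l : Spec (CommRingCat.of (B ⧸ KK v J)) ⟶ pullback Y.hom j :=
    pullback.lift (Spec.map mk ≫ v) (Spec.map ρbar) (by
      rw [Category.assoc, ← map_rho, hj, ← Spec.map_comp, ← Spec.map_comp, hsq])
  have hl : l ≫ pullback.fst Y.hom j = Spec.map mk ≫ v := pullback.lift_fst _ _ _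
  have key : Spec.map mk ≫ v ≫ a.left = Spec.map mk ≫ v ≫ a'.left := by
    rw [← Category.assoc, ← hl, Category.assoc, h, ← Category.assoc, hl, Category.assoc]
  rw [hψ, hψ', ← Category.assoc, ← Category.assoc, cancel_mono, ← Spec.map_comp,
    ← Spec.map_comp] at key
  have key2 : ψ ≫ mk = ψ' ≫ mk := Spec.map_injective key
  have key3 : Ideal.Quotient.mk (KK v J) (ψ.hom x) = Ideal.Quotient.mk (KK v J) (ψ'.hom x) :=
    congr($key2 x)
  exact Ideal.Quotient.eq.mp key3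

/-- the point of `Z` glued from three congruent points -/
theorem exists_G (hJ : J * J = ⊥) (a₀ a₁ a₂ : Y ⟶ X) (ψ₀ ψ₁ ψ₂ : A ⟶ B)
    (e₀ : v ≫ a₀.left = Spec.map ψ₀ ≫ w) (e₁ : v ≫ a₁.left = Spec.map ψ₁ ≫ w)
    (e₂ : v ≫ a₂.left = Spec.map ψ₂ ≫ w)
    (c1 : ∀ x, ψ₁.hom x - ψ₀.hom x ∈ KK v J) (c2 : ∀ x, ψ₂.hom x - ψ₀.hom x ∈ KK v J) :
    ∃ G : Zobj v J ⟶ X, p0 v J ≫ G = vv v ≫ a₀ ∧ p1 v J ≫ G = vv v ≫ a₁ ∧
      p2 v J ≫ G = vv v ≫ a₂ ∧
      G.left = Spec.map (CommRingCat.ofHom (tripleHom (KK v J) ψ₀.hom ψ₁.hom ψ₂.hom c1 c2)) ≫ w := by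
  set Ψ : A ⟶ TT v J := CommRingCat.ofHom (tripleHom (KK v J) ψ₀.hom ψ₁.hom ψ₂.hom c1 c2) with hΨ
  have hΨ0 : Ψ ≫ π0 v J = ψ₀ := rfl
  have hΨ1 : Ψ ≫ π1 v J = ψ₁ := rfl
  have hΨ2 : Ψ ≫ π2 v J = ψ₂ := rfl
  have q0 : Spec.map (π0 v J) ≫ Spec.map Ψ ≫ w = v ≫ a₀.left := by
    rw [← Category.assoc, ← Spec.map_comp, hΨ0, e₀]
  have q1 : Spec.map (π1 v J) ≫ Spec.map Ψ ≫ w = v ≫ a₁.left := by
    rw [← Category.assoc, ← Spec.map_comp, hΨ1, e₁]
  have q2 : Spec.map (π2 v J) ≫ Spec.map Ψ ≫ w = v ≫ a₂.left := by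
    rw [← Category.assoc, ← Spec.map_comp, hΨ2, e₂]
  have hover : (Spec.map Ψ ≫ w) ≫ X.hom = (Zobj v J).hom := by
    apply scheme_hom_ext v J hJ
    · rw [← Category.assoc, q0, Category.assoc, Over.w a₀]
      exact (hom_compat v J _ (δ_π0 v J)).symm
    · rw [← Category.assoc, q1, Category.assoc, Over.w a₁]
      exact (hom_compat v J _ (δ_π1 v J)).symm
    · rw [← Category.assoc, q2, Category.assoc, Over.w a₂]
      exact (hom_compat v J _ (δ_π2 v J)).symm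
  refine ⟨Over.homMk (Spec.map Ψ ≫ w) hover, ?_, ?_, ?_, rfl⟩
  · apply Over.OverMorphism.ext
    exact q0
  · apply Over.OverMorphism.ext
    exact q1
  · apply Over.OverMorphism.ext
    exact q2

variable [GrpObj X]

theorem local_comm (hJ : J * J = ⊥) [Mono w] (g g' : Y ⟶ X)
    (h1 : pullback.fst Y.hom (Spec.map (CommRingCat.ofHom (Ideal.Quotient.mk J))) ≫ g.left =
      pullback.fst Y.hom (Spec.map (CommRingCat.ofHom (Ideal.Quotient.mk J))) ≫ (1 : Y ⟶ X).left)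
    (h1' : pullback.fst Y.hom (Spec.map (CommRingCat.ofHom (Ideal.Quotient.mk J))) ≫ g'.left =
      pullback.fst Y.hom (Spec.map (CommRingCat.ofHom (Ideal.Quotient.mk J))) ≫ (1 : Y ⟶ X).left)
    (φ φ' ε : A ⟶ B) (hφ : v ≫ g.left = Spec.map φ ≫ w) (hφ' : v ≫ g'.left = Spec.map φ' ≫ w)
    (hε : v ≫ (1 : Y ⟶ X).left = Spec.map ε ≫ w) :
    v ≫ (g * g').left = v ≫ (g' * g).left := by
  have c : ∀ x, φ.hom x - ε.hom x ∈ KK v J := congr_of_reduction v J w g 1 h1 φ ε hφ hε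
  have c' : ∀ x, φ'.hom x - ε.hom x ∈ KK v J := congr_of_reduction v J w g' 1 h1' φ' ε hφ' hε
  have c0 : ∀ x, ε.hom x - ε.hom x ∈ KK v J := fun x => by simp
  obtain ⟨G₁, h01, h11, h21, hG₁⟩ := exists_G v J w hJ 1 g 1 ε φ ε hε hφ hε c c0
  obtain ⟨G₂, h02, h12, h22, hG₂⟩ := exists_G v J w hJ 1 1 g' ε ε φ' hε hε hφ' c0 c'
  have hs1 : ps v J hJ ≫ G₁ = vv v ≫ g := by
    apply Over.OverMorphism.ext
    change Spec.map (σ v J hJ) ≫ G₁.left = v ≫ g.left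
    rw [hG₁, ← Category.assoc, ← Spec.map_comp, hφ]
    congr 2
    ext x
    exact congr($(sum_tripleHom_left (KK v J) (KK_sq v J hJ) ε.hom φ.hom c) x)
  have hs2 : ps v J hJ ≫ G₂ = vv v ≫ g' := by
    apply Over.OverMorphism.ext
    change Spec.map (σ v J hJ) ≫ G₂.left = v ≫ g'.left
    rw [hG₂, ← Category.assoc, ← Spec.map_comp, hφ']
    congr 2
    ext x
    exact congr($(sum_tripleHom_right (KK v J) (KK_sq v J hJ) ε.hom φ'.hom c') x)
  rw [MonObj.comp_one] at h01 h21 h02 h12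
  have hcomm := comm_of_triple (p0 v J) (p1 v J) (p2 v J) (ps v J hJ)
    (fun P Q => over_hom_ext v J hJ P Q) (vv v ≫ g) (vv v ≫ g') G₁ G₂
    h01 h11 h21 hs1 h02 h12 h22 hs2
  rw [← MonObj.comp_mul, ← MonObj.comp_mul] at hcomm
  exact congr($(hcomm).left)

end Local

end Groth.Agent.Lib.Helper24.SqZeroComm
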