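import Mathlib
import Groth.Prelude.Def_Red
import Groth.Agent.Lib.Helper24.SqZeroComm.Main

/-!
# Helper24 — globalization: the kernel of reduction mod a square-zero ideal is commutative
-/

set_option autoImplicit false

universe u

open CategoryTheory CategoryTheory.Limits AlgebraicGeometry MonoidalCategory
  CartesianMonoidalCategory MonObj

namespace Groth.Agent.Lib.Helper24.SqZeroComm

variable {R : Type u} [CommRing R] (J : Ideal R)

theorem surjective_j (hJ : J * J = ⊥) :
    Surjective (Spec.map (CommRingCat.ofHom (Ideal.Quotient.mk J))) := by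
  refine ⟨fun P => ?_⟩
  have hJP : J ≤ P.asIdeal := by
    intro a ha
    have : a * a ∈ P.asIdeal := by
      have : a * a ∈ J * J := Ideal.mul_mem_mul ha ha
      rw [hJ, Ideal.mem_bot] at this
      rw [this]; exact P.asIdeal.zero_mem
    exact (P.isPrime.mem_or_mem this).elim id id
  have hmem : P ∈ Set.range (PrimeSpectrum.comap (Ideal.Quotient.mk J)) := by
    rw [range_comap_of_surjective _ _ Ideal.Quotient.mk_surjective, Ideal.mk_ker]
    exact hJP
  exact hmem

variable {X Y : Over (Spec (CommRingCat.of R))} [GrpObj X]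

theorem fst_comp_of_map_eq_one (g : Y ⟶ X)
    (hg : (Over.pullback (Spec.map (CommRingCat.ofHom (Ideal.Quotient.mk J)))).map g = 1) :
    pullback.fst Y.hom (Spec.map (CommRingCat.ofHom (Ideal.Quotient.mk J))) ≫ g.left =
      pullback.fst Y.hom (Spec.map (CommRingCat.ofHom (Ideal.Quotient.mk J))) ≫
        (1 : Y ⟶ X).left := by
  set j := Spec.map (CommRingCat.ofHom (Ideal.Quotient.mk J)) with hj
  have h2 : (Over.pullback j).map g = (Over.pullback j).map (1 : Y ⟶ X) := by
    rw [hg]
    exact (Functor.map_one (Over.pullback j)).symm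
  have := congr($(h2).left ≫ pullback.fst X.hom j)
  simpa only [CategoryTheory.Over.pullback_map_left, pullback.lift_fst] using this

theorem main (hJ : J * J = ⊥) (g g' : Y ⟶ X)
    (hg : (Over.pullback (Spec.map (CommRingCat.ofHom (Ideal.Quotient.mk J)))).map g = 1)
    (hg' : (Over.pullback (Spec.map (CommRingCat.ofHom (Ideal.Quotient.mk J)))).map g' = 1) :
    g * g' = g' * g := by
  set j := Spec.map (CommRingCat.ofHom (Ideal.Quotient.mk J)) with hj
  have h1 := fst_comp_of_map_eq_one J g hg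
  have h1' := fst_comp_of_map_eq_one J g' hg'
  haveI : Surjective j := surjective_j J hJ
  have hpt : ∀ (a : Y ⟶ X), pullback.fst Y.hom j ≫ a.left = pullback.fst Y.hom j ≫ (1 : Y ⟶ X).left →
      ∀ y : Y.left, a.left y = (1 : Y ⟶ X).left y := by
    intro a ha y
    obtain ⟨y₀, rfl⟩ := (pullback.fst Y.hom j).surjective y
    rw [← Scheme.Hom.comp_apply, ha, Scheme.Hom.comp_apply]
  apply Over.OverMorphism.ext
  -- local data
  have hloc : ∀ y : Y.left, ∃ V : Y.left.Opens, y ∈ V ∧
      V.ι ≫ (g * g').left = V.ι ≫ (g' * g).left := by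
    intro y
    obtain ⟨_, ⟨U, hU, rfl⟩, hxU, -⟩ := X.left.isBasis_affineOpens.exists_subset_of_mem_open
      (Set.mem_univ (g.left y)) isOpen_univ
    have hxU' : g'.left y ∈ U := by
      rw [hpt g' h1' y, ← hpt g h1 y]; exact hxU
    have hyO : y ∈ g.left ⁻¹ᵁ U ⊓ g'.left ⁻¹ᵁ U := ⟨hxU, hxU'⟩
    obtain ⟨_, ⟨V, hV, rfl⟩, hyV, hVO⟩ := Y.left.isBasis_affineOpens.exists_subset_of_mem_open
      hyO (g.left ⁻¹ᵁ U ⊓ g'.left ⁻¹ᵁ U).isOpen
    refine ⟨V, hyV, ?_⟩
    have hU' : IsAffineOpen U := hU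
    have hV' : IsAffineOpen V := hV
    let w := hU'.fromSpec
    let v := hV'.fromSpec
    have hrv : ∀ b, v b ∈ V := fun b => by
      have : v b ∈ Set.range v := ⟨b, rfl⟩
      rw [hV'.range_fromSpec] at this
      exact this
    have hr : ∀ (a : Y ⟶ X), (∀ y ∈ V, a.left y ∈ U) → Set.range (v ≫ a.left) ⊆ Set.range w := by
      intro a ha
      rintro _ ⟨b, rfl⟩
      rw [hU'.range_fromSpec, Scheme.Hom.comp_apply]
      exact ha _ (hrv b)
    have hgU : ∀ y ∈ V, g.left y ∈ U := fun y hy => (hVO hy).1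
    have hg'U : ∀ y ∈ V, g'.left y ∈ U := fun y hy => (hVO hy).2
    have h1U : ∀ y ∈ V, (1 : Y ⟶ X).left y ∈ U := fun y hy => by
      rw [← hpt g h1 y]; exact hgU y hy
    let φ := Spec.preimage (IsOpenImmersion.lift w (v ≫ g.left) (hr g hgU))
    let φ' := Spec.preimage (IsOpenImmersion.lift w (v ≫ g'.left) (hr g' hg'U))
    let ε := Spec.preimage (IsOpenImmersion.lift w (v ≫ (1 : Y ⟶ X).left) (hr 1 h1U))
    have hφ : v ≫ g.left = Spec.map φ ≫ w := by
      rw [Spec.map_preimage, IsOpenImmersion.lift_fac]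
    have hφ' : v ≫ g'.left = Spec.map φ' ≫ w := by
      rw [Spec.map_preimage, IsOpenImmersion.lift_fac]
    have hε : v ≫ (1 : Y ⟶ X).left = Spec.map ε ≫ w := by
      rw [Spec.map_preimage, IsOpenImmersion.lift_fac]
    have := local_comm v J w hJ g g' h1 h1' φ φ' ε hφ hφ' hε
    rw [← hV'.isoSpec_hom_fromSpec, Category.assoc, Category.assoc]
    exact congrArg (hV'.isoSpec.hom ≫ ·) this
  choose N hN hNeq using hloc
  have hcov : TopologicalSpace.IsOpenCover N := by
    rw [TopologicalSpace.IsOpenCover, eq_top_iff]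
    intro p _
    exact TopologicalSpace.Opens.mem_iSup.mpr ⟨p, hN p⟩
  let 𝒰 : Y.left.OpenCover := Y.left.openCoverOfIsOpenCover N hcov
  apply Scheme.Cover.hom_ext 𝒰
  intro y
  exact hNeq y

end Groth.Agent.Lib.Helper24.SqZeroComm
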